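import Cfsg.Agent.PQ.Th.Defs

/-!
# PQ, theta: bilinear operators in fermions (helper2)

`LS T A` : `A` is the locally finite sum of the operators `T c`; `Fm ps pt` : fermions; `bi S n` : the terms
`ψ_{σ^n c} ψ*_c`, `c ∈ S`; their commutators.
-/

set_option autoImplicit false
set_option linter.unusedSectionVars false
set_option maxHeartbeats 400000

namespace Cfsg.Agent.PQ.Hei

open Module Cfsg.Agent.PQ.Th Function

variable {F : Type} [AddCommGroup F] [Module ℂ F] {ι κ : Type}

/-- a locally finite family of operators -/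
def LF (T : ι → End ℂ F) : Prop := ∀ v, (support fun c => T c v).Finite

/-- a locally finite sum of operators -/
def LS (T : ι → End ℂ F) (A : End ℂ F) : Prop := LF T ∧ ∀ v, A v = ∑ᶠ c, T c v

variable {T T' : ι → End ℂ F} {A A' : End ℂ F}

/-- the sum of a locally finite family -/
noncomputable def LF.sum (h : LF T) : End ℂ F where
  toFun v := ∑ᶠ c, T c v
  map_add' u v := by simp only [map_add]; exact finsum_add_distrib (h u) (h v)
  map_smul' a v := by simp only [map_smul, RingHom.id_apply]; exact (smul_finsum' a (h v)).symm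

theorem LF.ls (h : LF T) : LS T h.sum := ⟨h, fun _ => rfl⟩

theorem LS.uniq (h : LS T A) (h' : LS T A') : A = A' := LinearMap.ext fun v => (h.2 v).trans (h'.2 v).symm

theorem LS.congr (h : LS T A) (e : ∀ c, T c = T' c) : LS T' A := (funext e : T = T') ▸ h

theorem LS.mul_right (h : LS T A) (B : End ℂ F) : LS (fun c => T c * B) (A * B) :=
  ⟨fun v => h.1 (B v), fun v => h.2 (B v)⟩

theorem LS.mul_left (h : LS T A) (B : End ℂ F) : LS (fun c => B * T c) (B * A) :=
  ⟨fun v => (h.1 v).subset fun c hc h0 => hc (by simp only [End.mul_apply]; rw [show T c v = 0 from h0, map_zero]),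
    fun v => by rw [End.mul_apply, h.2, map_finsum B (h.1 v)]; rfl⟩

theorem LS.add (h : LS T A) (h' : LS T' A') : LS (fun c => T c + T' c) (A + A') :=
  ⟨fun v => ((h.1 v).union (h'.1 v)).subset (support_add _ _),
    fun v => by rw [LinearMap.add_apply, h.2, h'.2, ← finsum_add_distrib (h.1 v) (h'.1 v)]; rfl⟩

theorem LS.sub (h : LS T A) (h' : LS T' A') : LS (fun c => T c - T' c) (A - A') :=
  ⟨fun v => ((h.1 v).union (h'.1 v)).subset (support_sub _ _),
    fun v => by rw [LinearMap.sub_apply, h.2, h'.2, ← finsum_sub_distrib (h.1 v) (h'.1 v)]; rfl⟩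

theorem ls_zero : LS (fun _ : ι => (0 : End ℂ F)) 0 := ⟨fun v => by simp, fun v => by simp⟩

theorem LS.sum {α : Type} (s : Finset α) {T : α → ι → End ℂ F} {A : α → End ℂ F} (h : ∀ a, LS (T a) (A a)) :
    LS (fun c => ∑ a ∈ s, T a c) (∑ a ∈ s, A a) := by
  classical
  induction s using Finset.induction_on with
  | empty => simpa using ls_zero
  | insert a s ha ih => simpa only [Finset.sum_insert ha] using (h a).add ih

theorem ls_single [DecidableEq ι] (c₀ : ι) (X : End ℂ F) : LS (fun c => if c = c₀ then X else 0) X :=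
  ⟨fun v => (Set.finite_singleton c₀).subset fun c hc => by_contra fun h => hc (by simp [show c ≠ c₀ from h]),
    fun v => by rw [finsum_eq_single _ c₀ fun c hc => by simp [hc]]; simp⟩

theorem LS.comp (h : LS T A) (e : κ ≃ ι) : LS (fun c => T (e c)) A :=
  ⟨fun v => (h.1 v).preimage e.injective.injOn, fun v => by rw [h.2, ← finsum_comp_equiv e]⟩

theorem LS.commute (h : LS T A) {B : End ℂ F} (hB : ∀ c, Commute B (T c)) : Commute B A :=
  (h.mul_left B).uniq ((h.mul_right B).congr fun c => (hB c).symm)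

/-- the telescoping sum -/
theorem tele (n : ℤ → F) (v : F) (N : ℕ) (h1 : ∀ m : ℤ, m ≤ -(N : ℤ) → n m = v) (h2 : ∀ m, (N : ℤ) ≤ m → n m = 0) (j : ℕ) :
    (support fun m => n m - n (m + j)).Finite ∧ ∑ᶠ m, (n m - n (m + j)) = (j : ℂ) • v := by
  have h3 : ∀ j : ℕ, (support fun m => n m - n (m + j)) ⊆ (Finset.Ico (-(N : ℤ) - j) N : Set ℤ) := fun j m hm => by
    by_contra h
    simp only [Finset.coe_Ico, Set.mem_Ico, not_and_or, not_le, not_lt] at h
    rcases h with h | h
    · exact hm (by simp only; rw [h1 _ (by omega), h1 _ (by omega), sub_self])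
    · exact hm (by simp only; rw [h2 _ (by omega), h2 _ (by omega), sub_self])
  have h4 : ∀ j : ℕ, (support fun m => n m - n (m + j)).Finite := fun j => (Finset.finite_toSet _).subset (h3 j)
  have h5 : ∑ᶠ m, (n m - n (m + (1 : ℕ))) = v := by
    rw [finsum_eq_sum_of_support_subset _ (h3 1), Finset.sum_nbij' (t := Finset.range (2 * N + 1))
      (g := fun i : ℕ => n (-N - 1 + i) - n (-N - 1 + (i + 1 : ℕ))) (fun m : ℤ => (m + N + 1).toNat)
        (fun i : ℕ => -(N : ℤ) - 1 + i),
      Finset.sum_range_sub' fun i : ℕ => n (-N - 1 + i), h1 _ (by omega), h2 _ (by omega), sub_zero]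
    · intro m hm; simp only [Finset.mem_Ico, Finset.mem_range] at hm ⊢; omega
    · intro m hm; simp only [Finset.mem_Ico, Finset.mem_range] at hm ⊢; omega
    · intro m hm; simp only [Finset.mem_Ico] at hm ⊢; omega
    · intro m hm; simp only [Finset.mem_range] at hm ⊢; omega
    · intro m hm
      simp only [Finset.mem_Ico] at hm
      congr 2 <;> omega
  refine ⟨h4 j, ?_⟩
  induction j with
  | zero => simp
  | succ j ih =>
    have h6 := finsum_comp_equiv (Equiv.addRight (j : ℤ)) (f := fun m => n m - n (m + (1 : ℕ)))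
    rw [Nat.cast_succ (R := ℂ), add_smul, one_smul, ← ih, ← h5, ← h6,
      ← finsum_add_distrib (h4 j) ((h4 1).preimage (Equiv.addRight (j : ℤ)).injective.injOn)]
    refine finsum_congr fun m => ?_
    simp [add_assoc]

/-! ### the shift of the sites -/

/-- the shift -/
def sg (ng : Bool) (k : ℕ) (n : ℤ) (c : Site) : Site := (xor c.1 (ng && decide (Odd n)), c.2 + k * n)

variable {ng : Bool} {k : ℕ}

theorem sg_zero (c : Site) : sg ng k 0 c = c := by simp [sg]

theorem sg_add (m n : ℤ) (c : Site) : sg ng k m (sg ng k n c) = sg ng k (m + n) c := by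
  refine Prod.ext ?_ (by simp only [sg]; ring)
  simp only [sg, Int.odd_add, ← Int.not_odd_iff_even]
  by_cases h1 : Odd m <;> by_cases h2 : Odd n <;> cases ng <;> cases c.1 <;> simp [h1, h2]

variable (ng k) in
/-- the shift as a permutation -/
def sge (n : ℤ) : Site ≃ Site where
  toFun := sg ng k n
  invFun := sg ng k (-n)
  left_inv c := by rw [sg_add, neg_add_cancel, sg_zero]
  right_inv c := by rw [sg_add, add_neg_cancel, sg_zero]

theorem sg_inj {n : ℤ} {c c' : Site} : sg ng k n c = sg ng k n c' ↔ c = c' := (sge ng k n).injective.eq_iff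

theorem sg_ne (hk : 0 < k) {n : ℤ} (hn : n ≠ 0) (c : Site) : sg ng k n c ≠ c := fun h => by
  have h1 : c.2 + k * n = c.2 := congrArg Prod.snd h
  exact mul_ne_zero (Nat.cast_ne_zero.2 hk.ne') hn (add_eq_left.1 h1)

theorem fin_box (a b : ℤ) : {c : Site | a ≤ c.2 ∧ c.2 ≤ b}.Finite :=
  (Set.finite_univ.prod (Set.finite_Icc a b)).subset fun _ hc => ⟨trivial, hc⟩

/-- fermions -/
structure Fm (ps pt : Site → End ℂ F) : Prop where
  st : ∀ c c', ps c * pt c' + pt c' * ps c = if c = c' then 1 else 0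
  ss : ∀ c c', ps c * ps c' + ps c' * ps c = 0
  tt : ∀ c c', pt c * pt c' + pt c' * pt c = 0
  lf : ∀ v, ∃ N : ℕ, (∀ c : Site, (N : ℤ) < c.2 → pt c v = 0) ∧ ∀ c : Site, c.2 < -N → ps c v = 0

variable (ng k) in
/-- invariant sets of sites -/
def Iv (S : Set Site) : Prop := ∀ n c, sg ng k n c ∈ S ↔ c ∈ S

theorem Iv.inter {S S' : Set Site} (h : Iv ng k S) (h' : Iv ng k S') : Iv ng k (S ∩ S') :=
  fun n c => and_congr (h n c) (h' n c)

variable {ps pt : Site → End ℂ F}

open Classical in
variable (ng k ps pt) in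
/-- the terms `ψ_{σ^m c} ψ*_{σ^n c}` -/
noncomputable def bi (S : Set Site) (m n : ℤ) (c : Site) : End ℂ F :=
  if c ∈ S then ps (sg ng k m c) * pt (sg ng k n c) else 0

theorem LS.shift {S : Set Site} (hS : Iv ng k S) {m n : ℤ} (h : LS (bi ng k ps pt S m n) A) (r : ℤ) :
    LS (bi ng k ps pt S (m + r) (n + r)) A :=
  (h.comp (sge ng k r)).congr fun c => by
    show bi ng k ps pt S m n (sg ng k r c) = _
    simp only [bi, sg_add]
    rw [propext (hS r c)]

namespace Fm

variable (h : Fm ps pt)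
include h

theorem swap {c c' : Site} (e : c ≠ c') : ps c * pt c' = -(pt c' * ps c) := by
  rw [eq_neg_iff_add_eq_zero, h.st, if_neg e]

theorem same (c : Site) : ps c * pt c = 1 - pt c * ps c := by
  rw [eq_sub_iff_add_eq, h.st, if_pos rfl]

theorem lf_bi (hk : 0 < k) (S : Set Site) {m n : ℤ} (e : m ≠ n) : LF (bi ng k ps pt S m n) := fun v => by
  obtain ⟨N, h1, h2⟩ := h.lf v
  refine (fin_box (-N - k * m) (N - k * n)).subset fun c hc => by_contra fun h3 => hc ?_
  simp only [Set.mem_ofPred_eq, not_and_or, not_le] at h3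
  simp only [bi]
  split_ifs
  · rcases h3 with h3 | h3
    · rw [h.swap fun e' => sg_ne (ng := ng) hk (sub_ne_zero.2 e) (sg ng k n c) (by rw [sg_add, sub_add_cancel, e']),
        LinearMap.neg_apply, End.mul_apply, h2 _ (by simp only [sg]; omega), map_zero, neg_zero]
    · rw [End.mul_apply, h1 _ (by simp only [sg]; omega), map_zero]
  · rfl

theorem lf_bi0 {S : Set Site} (hS : {c ∈ S | c.2 < 0}.Finite) : LF (bi ng k ps pt S 0 0) := fun v => by
  obtain ⟨N, h1, -⟩ := h.lf v
  refine (hS.union (fin_box 0 N)).subset fun c hc => by_contra fun h3 => hc ?_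
  simp only [Set.mem_union, Set.mem_ofPred_eq, not_or, not_and_or, not_le, not_lt] at h3
  simp only [bi, sg_zero]
  split_ifs with h4
  · rw [End.mul_apply, h1 _ (by have := h3.1.resolve_left (not_not.2 h4); omega), map_zero]
  · rfl

theorem inf_bi0 {S : Set Site} (hS : {c ∈ S | c.2 < 0}.Infinite) {v : F} (hv : v ≠ 0) :
    ∑ᶠ c ∈ S, ps c (pt c v) = 0 := by
  obtain ⟨N, -, h2⟩ := h.lf v
  refine finsum_mem_eq_zero_of_infinite ((hS.sdiff (fin_box (-N) 0)).mono fun c hc => ⟨hc.1.1, ?_⟩)
  have h3 := hc.2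
  have h4 := hc.1.2
  simp only [Set.mem_ofPred_eq, not_and_or, not_le] at h3
  show (ps c * pt c) v ≠ 0
  rwa [h.same, LinearMap.sub_apply, End.mul_apply, h2 _ (by omega), map_zero, sub_zero]

variable {S S' : Set Site} {m n : ℤ}

open Classical in
theorem bi_s (hA : LS (bi ng k ps pt S m 0) A) (c : Site) :
    A * ps c = ps c * A + if c ∈ S then ps (sg ng k m c) else 0 := by
  refine (hA.mul_right _).uniq (((hA.mul_left _).add (ls_single c _)).congr fun c' => ?_)
  simp only [bi, sg_zero]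
  by_cases h1 : c' ∈ S
  · have h2 := h.st c c'
    have h3 := h.ss c (sg ng k m c')
    rw [if_pos h1, mul_assoc, eq_sub_of_add_eq' h2, mul_sub, ← mul_assoc, ← mul_assoc, eq_neg_of_add_eq_zero_left h3]
    by_cases h4 : c' = c
    · subst h4; simp [h1, add_comm, sub_eq_add_neg]
    · simp [h4, Ne.symm h4]
  · by_cases h4 : c' = c
    · subst h4; simp [h1]
    · simp [h1, h4]

open Classical in
theorem bi_t (hA : LS (bi ng k ps pt S m 0) A) (c : Site) :
    A * pt (sg ng k m c) = pt (sg ng k m c) * A - if c ∈ S then pt c else 0 := by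
  refine (hA.mul_right _).uniq (((hA.mul_left _).sub (ls_single c _)).congr fun c' => ?_)
  simp only [bi, sg_zero]
  by_cases h1 : c' ∈ S
  · have h2 := h.st (sg ng k m c') (sg ng k m c)
    have h3 := h.tt c' (sg ng k m c)
    rw [if_pos h1, mul_assoc (ps _), eq_neg_of_add_eq_zero_left h3, mul_neg, ← mul_assoc, ← mul_assoc,
      eq_sub_of_add_eq h2, sub_mul]
    by_cases h4 : c' = c
    · subst h4; simp [h1]
    · simp [h4, sg_inj]
  · by_cases h4 : c' = c
    · subst h4; simp [h1]
    · simp [h1, h4]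

/-- the commutator of two bilinear operators -/
theorem bi_bi (hS : Iv ng k S) (hA : LS (bi ng k ps pt S m 0) A) (hA' : LS (bi ng k ps pt S' n 0) A') :
    LS (fun c => bi ng k ps pt (S ∩ S') (m + n) 0 c - bi ng k ps pt (S ∩ S') n (-m) c) (A * A' - A' * A) := by
  refine ((hA'.mul_left A).sub (hA'.mul_right A)).congr fun c => ?_
  have h1 := h.bi_t hA (sg ng k (-m) c)
  rw [sg_add, add_neg_cancel, sg_zero] at h1
  simp only [bi, sg_zero, Set.mem_inter_iff]
  by_cases h2 : c ∈ S'
  · rw [if_pos h2, ← mul_assoc, h.bi_s hA, add_mul, mul_assoc _ A, h1, sg_add, hS, hS]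
    by_cases h3 : c ∈ S <;> simp [h2, h3, mul_sub, mul_assoc]
    abel
  · simp [h2]

theorem bi_comm (hk : 0 < k) (hS : Iv ng k S) (hS' : Iv ng k S') (hA : LS (bi ng k ps pt S m 0) A)
    (hA' : LS (bi ng k ps pt S' n 0) A') (e : m + n ≠ 0) : A * A' = A' * A := by
  have h1 := (h.lf_bi (ng := ng) hk (S ∩ S') e).ls
  have h2 := h1.shift (hS.inter hS') (-m)
  rw [zero_add, show m + n + -m = n by ring] at h2
  rw [← sub_eq_zero, (h.bi_bi hS hA hA').uniq (h1.sub h2), sub_self]

/-- a single runner -/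
theorem bi_run (hk : 0 < k) (hS : Iv ng k S) {c₀ : Site} (h0 : ∀ c, c ∈ S ↔ ∃ r, sg ng k r c₀ = c) {j : ℕ}
    (hA : LS (bi ng k ps pt S (-j) 0) A) (hA' : LS (bi ng k ps pt S j 0) A') : A * A' = A' * A + (j : ℂ) • 1 := by
  rw [← sub_eq_iff_eq_add']
  refine LinearMap.ext fun v => ?_
  obtain ⟨N, h1, h2⟩ := h.lf v
  have h3 : Injective fun r => sg ng k r c₀ := fun r r' e => by
    have e1 : c₀.2 + k * r = c₀.2 + k * r' := congrArg Prod.snd e
    exact mul_left_cancel₀ (Nat.cast_ne_zero.2 hk.ne') (add_left_cancel e1)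
  have h4 := (tele (fun r => ps (sg ng k r c₀) (pt (sg ng k r c₀) v)) v (N + c₀.2.natAbs + 1) (fun r hr => ?_)
    (fun r hr => ?_) j).2
  · rw [(h.bi_bi hS hA hA').2, Set.inter_self, neg_add_cancel, neg_neg, LinearMap.smul_apply, End.one_apply, ← h4,
      ← finsum_mem_univ (fun r : ℤ => _ - _), ← finsum_mem_support]
    symm
    rw [← finsum_mem_inter_support]
    refine finsum_mem_eq_of_bijOn (fun r => sg ng k r c₀) ⟨fun r hr => ?_, h3.injOn, fun c hc => ?_⟩ fun r _ => ?_
    · have h5 : sg ng k r c₀ ∈ S := (h0 _).2 ⟨r, rfl⟩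
      simpa [bi, h5, sg_zero, sg_add, add_comm] using hr.2
    · have h5 : c ∈ S := by_contra fun h5 => hc (by simp [bi, h5])
      obtain ⟨r, rfl⟩ := (h0 c).1 h5
      exact ⟨r, ⟨trivial, by simpa [bi, h5, sg_zero, sg_add, add_comm] using hc⟩, rfl⟩
    · have h5 : sg ng k r c₀ ∈ S := (h0 _).2 ⟨r, rfl⟩
      simp [bi, h5, sg_add, add_comm]
  · show (ps _ * pt _) v = v
    have h5 : (k : ℤ) * r ≤ r := by nlinarith [(by omega : r ≤ 0), (by omega : (1 : ℤ) ≤ k)]
    rw [h.same, LinearMap.sub_apply, End.mul_apply, h2 _ (by simp only [sg]; omega), map_zero, sub_zero, End.one_apply]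
  · have h5 : r ≤ (k : ℤ) * r := by nlinarith [(by omega : 0 ≤ r), (by omega : (1 : ℤ) ≤ k)]
    rw [h1 _ (by simp only [sg]; omega), map_zero]

omit h in
theorem bi_commute (hA : LS (bi ng k ps pt S m n) A) {B : End ℂ F} (h1 : ∀ c, Commute B (ps c))
    (h2 : ∀ c, Commute B (pt c)) : Commute B A :=
  hA.commute fun c => by
    simp only [bi]
    split_ifs
    exacts [(h1 _).mul_right (h2 _), Commute.zero_right _]

end Fm

end Cfsg.Agent.PQ.Hei
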