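import Cfsg.Agent.PQ.Hei.Abs

/-!
# PQ, theta: inner products, ranks, the local finiteness on the Fock space (helper2)
-/

set_option autoImplicit false
set_option linter.unusedSectionVars false
set_option maxHeartbeats 400000

namespace Cfsg.Agent.PQ.Hei

open Module Cfsg.Agent.PQ.Th Function
open scoped ComplexConjugate

variable {V : Type} [AddCommGroup V] [Module ℂ V] {H : HS V} {A B A' B' : End ℂ V} {ι : Type}

variable (H) in
/-- the inner product as a linear form -/
noncomputable def ipl (v : V) : V →ₗ[ℂ] ℂ :=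
  Finsupp.linearCombination ℂ (fun i => conj (H.b.repr v i)) ∘ₗ H.b.repr.toLinearMap

theorem ip_eq (u v : V) : H.ip u v = ipl H v u := rfl

theorem ip_symm (u v : V) : conj (H.ip u v) = H.ip v u := by
  classical
  rw [HS.ip, HS.ip, Finsupp.sum_of_support_subset _ (Finset.subset_union_left (s₂ := (H.b.repr v).support)) _ (by simp),
    Finsupp.sum_of_support_subset _ (Finset.subset_union_right (s₁ := (H.b.repr u).support)) _ (by simp), map_sum]
  exact Finset.sum_congr rfl fun i _ => by simp [mul_comm]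

theorem ip_b (i : H.ι) (v : V) : H.ip (H.b i) v = conj (H.b.repr v i) := by simp [HS.ip]

theorem ip_b' (i : H.ι) (v : V) : H.ip v (H.b i) = H.b.repr v i := by rw [← ip_symm, ip_b, Complex.conj_conj]

theorem adj_symm (h : H.Adj A B) : H.Adj B A := fun u v => by rw [← ip_symm, ← h, ip_symm]

theorem adj_uniq (h : H.Adj A B) (h' : H.Adj A B') : B = B' := LinearMap.ext fun v => H.b.repr.injective <|
  Finsupp.ext fun i => (RingHom.injective conj) (by rw [← ip_b, ← ip_b, ← h, h'])

theorem adj_mul (h : H.Adj A B) (h' : H.Adj A' B') : H.Adj (A * A') (B' * B) := fun _ _ => (h _ _).trans (h' _ _)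

theorem adj_add (h : H.Adj A B) (h' : H.Adj A' B') : H.Adj (A + A') (B + B') := fun u v => by
  rw [LinearMap.add_apply, LinearMap.add_apply, ip_eq, map_add, ← ip_symm (B v + B' v), ip_eq (B v + B' v), map_add,
    map_add, ← ip_eq, ← ip_eq, ← ip_eq, ← ip_eq, ip_symm, ip_symm, h, h']

theorem adj_zero : H.Adj 0 0 := fun u v => by
  rw [LinearMap.zero_apply, LinearMap.zero_apply, ← ip_symm 0, ip_eq, ip_eq, map_zero, map_zero, map_zero]

theorem adj_ls {T T' : ι → End ℂ V} (h : LS T A) (h' : LS T' B) (e : ∀ c, H.Adj (T c) (T' c)) : H.Adj A B := fun u v => by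
  have h1 := map_finsum ((starRingEnd ℂ).toAddMonoidHom.comp (ipl H u).toAddMonoidHom) (h'.1 v)
  rw [h.2, h'.2, ip_eq, map_finsum _ (h.1 u), ← ip_symm _ u]
  refine Eq.trans (finsum_congr fun c => ?_) h1.symm
  rw [← ip_eq, e, ← ip_symm]
  rfl

theorem map_sup {P Q : H.ι → Prop} (h : ∀ i, P i → A (H.b i) ∈ H.sup Q) {u : V} (hu : u ∈ H.sup P) : A u ∈ H.sup Q := by
  rw [← H.b.linearCombination_repr u, Finsupp.linearCombination_apply, Finsupp.sum, map_sum]
  refine Submodule.sum_mem _ fun i hi => ?_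
  rw [map_smul]
  exact Submodule.smul_mem _ _ (h i (by_contra fun h1 => Finsupp.mem_support_iff.1 hi (hu i h1)))

theorem b_mem {P : H.ι → Prop} {i : H.ι} (h : P i) : H.b i ∈ H.sup P := fun j hj => by
  rw [Basis.repr_self, Finsupp.single_eq_of_ne fun e : j = i => hj (e ▸ h)]

theorem eq_zero_of_gr {n : ℤ} (hn : n < 0) {u : V} (hu : u ∈ H.gr n) : u = 0 :=
  H.b.repr.injective (Finsupp.ext fun i => by rw [hu i (by omega), map_zero, Finsupp.zero_apply])

variable (H) in
/-- homogeneous for the rank -/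
def Rk (A : End ℂ V) (d : ℤ) : Prop := ∀ n, ∀ u ∈ H.gr n, A u ∈ H.gr (n + d)

theorem rk_of {d : ℤ} (h : ∀ i, A (H.b i) ∈ H.gr (H.rk i + d)) : Rk H A d := fun _ _ hu =>
  map_sup (fun i hi => by have := h i; rwa [hi] at this) hu

theorem rk_hom {d : ℤ} {s : ZMod 4} (h : H.Hom A d s) : Rk H A d := rk_of fun i => (h i).1

theorem Rk.adj {d : ℤ} (h : Rk H A d) (e : H.Adj A B) : Rk H B (-d) := rk_of fun i j hj => by
  rw [← ip_b', adj_symm e, ip_b, h _ _ (b_mem rfl) i (by omega), map_zero]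

theorem Rk.mul {d d' : ℤ} (h : Rk H A d) (h' : Rk H B d') : Rk H (A * B) (d' + d) := fun n u hu => by
  rw [← add_assoc]; exact h _ _ (h' n u hu)

theorem mk'_b (f : H.ι → V) (i : H.ι) : H.mk' f (H.b i) = f i := H.b.constr_basis ℂ f i

theorem rk_inv {u : ℕ → End ℂ V} {e : ℤ} (h : ∀ j, Rk H (u j) (e * j)) (j : ℕ) : Rk H (inv u j) (e * j) := by
  induction j using Nat.strong_induction_on with
  | _ j ih =>
  rcases j with _ | j
  · intro n v hv
    simpa [inv] using hv
  · intro n v hv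
    rw [inv, LinearMap.neg_apply, LinearMap.sum_apply]
    refine neg_mem (Submodule.sum_mem _ fun i _ => ?_)
    have := (h (i + 1)).mul (ih (j - i) (by omega)) n v hv
    rwa [Nat.cast_sub (by omega), show e * ((j : ℤ) - (i : ℕ)) + e * ((i : ℕ) + 1 : ℕ) = e * (j + 1 : ℕ) by
      push_cast; ring] at this

theorem J_b (i : H.ι) : H.J (H.b i) = (open Classical in if Od (H.df i) then (1 : ℂ) else -1) • H.b i := by
  simp only [HS.J, HS.po, HS.pe, LinearMap.sub_apply, mk'_b]
  split_ifs <;> simp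

theorem rk_po : Rk H H.po 0 := rk_of fun i => by
  rw [HS.po, mk'_b]
  split_ifs
  exacts [b_mem (add_zero _).symm, zero_mem _]

theorem rk_pe : Rk H H.pe 0 := rk_of fun i => by
  rw [HS.pe, mk'_b]
  split_ifs
  exacts [zero_mem _, b_mem (add_zero _).symm]

theorem rk_J : Rk H H.J 0 := fun n u hu => sub_mem (rk_po n u hu) (rk_pe n u hu)

theorem J_sq : H.J * H.J = 1 := H.b.ext fun i => by
  rw [End.mul_apply, J_b, map_smul, J_b, smul_smul]
  split_ifs <;> simp

theorem repr_J (u : V) (i : H.ι) :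
    H.b.repr (H.J u) i = (open Classical in if Od (H.df i) then (1 : ℂ) else -1) * H.b.repr u i := by
  have h : H.b.coord i ∘ₗ H.J = (open Classical in if Od (H.df i) then (1 : ℂ) else -1) • H.b.coord i :=
    H.b.ext fun j => by
      classical
      rw [LinearMap.comp_apply, J_b, map_smul, LinearMap.smul_apply, Basis.coord_apply, Basis.repr_self]
      by_cases e : j = i
      · rw [e]
      · rw [Finsupp.single_eq_of_ne (Ne.symm e), smul_zero, smul_zero]
  exact LinearMap.congr_fun h u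

theorem adj_J : H.Adj H.J H.J := fun u v => by
  have h : ipl H v ∘ₗ H.J = ipl H (H.J v) := H.b.ext fun i => by
    rw [LinearMap.comp_apply, J_b, map_smul, ← ip_eq, ← ip_eq, ip_b, ip_b, repr_J, map_mul, smul_eq_mul]
    split_ifs <;> simp
  exact LinearMap.congr_fun h u

theorem od_add {s : ZMod 4} (hs : ∃ t, s = 2 * t) (D : ZMod 4) : Od (D + s) ↔ Od D := by
  obtain ⟨t, rfl⟩ := hs
  revert D t
  unfold Od
  decide

theorem comm_J {d : ℤ} {s : ZMod 4} (h : H.Hom A d s) (hs : ∃ t, s = 2 * t) : Commute A H.J := H.b.ext fun i => by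
  rw [End.mul_apply, End.mul_apply, J_b, map_smul]
  refine H.b.repr.injective (Finsupp.ext fun j => ?_)
  rw [repr_J, map_smul, Finsupp.smul_apply, smul_eq_mul]
  by_cases e : H.df j = H.df i + s
  · rw [e, propext (od_add hs _)]
  · rw [(h i).2 j e, mul_zero, mul_zero]

theorem comm_J' (h : Commute A H.J) (e : H.Adj A B) : Commute B H.J :=
  adj_uniq (adj_mul e adj_J) (h.eq ▸ adj_mul adj_J e) |>.symm

/-! ### the Fock space -/

theorem lf_mul (A B : End ℂ V) : lf (A * B) = lf A * lf B := Finsupp.mapRange.linearMap_comp A B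

theorem lf_add_smul (A : End ℂ V) (c : ℂ) : lf (A + c • 1) = lf A + c • 1 :=
  Finsupp.lhom_ext fun M u => by simp [lf]

theorem mv_single (s : ℤ) (A : ℤ → End ℂ V) (M : ℤ) (u : V) :
    mv s A (Finsupp.single M u) = Finsupp.single (M + s) (A M u) := by simp [mv]

variable (C : Cyc H)

theorem rk_X {A : ℤ → End ℂ V} (h : ∀ d, Rk H (A d) d) (d : ℤ) : Rk H (C.X A d) d := rk_of fun i => by
  rw [Cyc.X, mk'_b]
  refine Submodule.sum_mem _ fun j _ => ?_
  have := (h (d + j)).mul (rk_inv (e := -1) (fun j => by simpa using (rk_hom (C.h_hom j)).adj (C.h_adj j)) j) _ _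
    (b_mem (i := i) rfl)
  rwa [show -1 * (j : ℤ) + (d + j) = d by ring] at this

theorem rk_Y {A : ℤ → End ℂ V} (h : ∀ d, Rk H (A d) d) (d : ℤ) : Rk H (C.Y A d) d := rk_of fun i => by
  rw [Cyc.Y, mk'_b]
  refine Submodule.sum_mem _ fun j _ => ?_
  have := (rk_inv (e := 1) (fun j => by simpa using rk_hom (C.h_hom j)) j).mul (h (d - j)) _ _ (b_mem (i := i) rfl)
  rwa [show d - j + 1 * (j : ℤ) = d by ring] at this

theorem rk_R (d : ℤ) : Rk H (C.R d) d := rk_hom (C.R_hom d)

theorem rk_L (d : ℤ) : Rk H (C.L d) d := by simpa using (rk_R C (-d)).adj (C.R_adj (-d))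

theorem Rk.zero {d : ℤ} (h : Rk H A d) {d' : ℤ} (h' : Rk H B d') {i : H.ι} (e : H.rk i + d' + d < 0) :
    (A * B) (H.b i) = 0 := eq_zero_of_gr e (h _ _ (h' _ _ (b_mem rfl)))

theorem up_zero {A : ℤ → End ℂ V} (h : ∀ d, Rk H (A d) d) {x M : ℤ} {i : H.ι} (e : H.rk i + x < M) :
    Cyc.up (H := H) A x (Finsupp.single M (H.b i)) = 0 := by
  rw [Cyc.up, LinearMap.add_apply, mv_single, mv_single, (h _).zero rk_po (by omega), (h _).zero rk_pe (by omega)]
  simp

theorem dn_zero {A : ℤ → End ℂ V} (h : ∀ d, Rk H (A d) d) {x M : ℤ} {i : H.ι} (e : H.rk i + M < x) :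
    Cyc.dn (H := H) A x (Finsupp.single M (H.b i)) = 0 := by
  rw [Cyc.dn, LinearMap.add_apply, mv_single, mv_single, (h _).zero rk_po (by omega), (h _).zero rk_pe (by omega)]
  simp

theorem fock_b (x : H.fock.ι) : H.fock.b x = Finsupp.single x.1 (H.b x.2) := by
  show (Finsupp.basis fun _ : ℤ => H.b) x = _
  rw [Finsupp.coe_basis]

variable {C} in
theorem fm (h : CAR C) : Fm C.ps C.pt where
  st := h.st
  ss := h.ss
  tt := h.tt
  lf v := by
    have h1 : v ∈ Submodule.span ℂ (Set.range H.fock.b) := H.fock.b.mem_span v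
    induction h1 using Submodule.span_induction with
    | mem v hv =>
      obtain ⟨x, rfl⟩ := hv
      rw [fock_b]
      refine ⟨H.rk x.2 + x.1.natAbs, fun c hc => ?_, fun c hc => ?_⟩
      · rw [Cyc.pt]
        split_ifs
        · exact dn_zero (fun d => by simpa using rk_J.mul (rk_Y C (rk_R C) d)) (by omega)
        · exact dn_zero (rk_Y C (rk_L C)) (by omega)
      · rw [Cyc.ps]
        split_ifs
        · exact up_zero (fun d => by simpa using (rk_X C (rk_L C) d).mul rk_J) (by omega)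
        · exact up_zero (rk_X C (rk_R C)) (by omega)
    | zero => exact ⟨0, fun _ _ => map_zero _, fun _ _ => map_zero _⟩
    | add u v _ _ hu hv =>
      obtain ⟨M, h1, h2⟩ := hu
      obtain ⟨N, h3, h4⟩ := hv
      exact ⟨M + N, fun c hc => by rw [map_add, h1 c (by omega), h3 c (by omega), add_zero],
        fun c hc => by rw [map_add, h2 c (by omega), h4 c (by omega), add_zero]⟩
    | smul a u _ hu =>
      obtain ⟨M, h1, h2⟩ := hu
      exact ⟨M, fun c hc => by rw [map_smul, h1 c hc, smul_zero], fun c hc => by rw [map_smul, h2 c hc, smul_zero]⟩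

theorem ls_mk {T : ι → End ℂ V} (h : LF T) : LS T (H.mk' fun x => ∑ᶠ c, T c (H.b x)) := by
  rw [show (H.mk' fun x => ∑ᶠ c, T c (H.b x)) = h.sum from H.b.ext fun x => mk'_b _ x]
  exact h.ls

end Cfsg.Agent.PQ.Hei
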