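import Cfsg.Agent.PQ.Hei.Hs

/-!
# PQ, theta: the Heisenberg relations of runners and labels, box HEI (helper2)
-/

set_option autoImplicit false
set_option linter.unusedSectionVars false
set_option maxHeartbeats 400000

namespace Cfsg.Agent.PQ.Hei

open Module Cfsg.Agent.PQ.Th Function
open scoped ComplexConjugate

attribute [local instance] Loc.fI Loc.dI

/-! ### the character sums -/

section ar

variable {k : ℕ} {I : Type} (A : Ar k I)

theorem ne0 : NeZero (A.p ^ A.b) := ⟨(pow_pos A.pp.pos _).ne'⟩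

theorem unit_g (hk : 0 < k) : IsUnit A.g := IsUnit.of_pow_eq_one A.g_pow (by omega)

theorem unit_j {j : ℕ} (h0 : 0 < j) (hj : j ≤ A.a) : IsUnit (j : ZMod (A.p ^ A.b)) :=
  (ZMod.isUnit_iff_coprime _ _).2 (Nat.Coprime.pow_right _
    ((Nat.coprime_of_lt_prime h0.ne' (hj.trans_lt A.a_lt) A.pp).symm))

theorem sum_shift {M : Type} [AddCommGroup M] (f : ZMod (A.p ^ A.b) → M) :
    ∑ s ∈ Finset.range (2 * k), f (A.g ^ (s + 1)) = ∑ s ∈ Finset.range (2 * k), f (A.g ^ s) := by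
  have h1 := Finset.sum_range_succ (fun s => f (A.g ^ s)) (2 * k)
  rw [Finset.sum_range_succ', A.g_pow, pow_zero] at h1
  exact add_right_cancel h1

theorem tau_g (c z : ZMod (A.p ^ A.b)) : A.τ c (A.g * z) = A.τ c z := by
  rw [Ar.τ, Ar.τ, ← sum_shift A fun x => A.χ (c * x * z)]
  exact Finset.sum_congr rfl fun s _ => by rw [pow_succ]; congr 1; ring

theorem tau_zero (c : ZMod (A.p ^ A.b)) : A.τ c 0 = 2 * k := by simp [Ar.τ]

open Classical in
theorem sum_chi [NeZero (A.p ^ A.b)] (a : ZMod (A.p ^ A.b)) :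
    ∑ z, A.χ (a * z) = if a = 0 then (A.p : ℂ) ^ A.b else 0 := by
  have h := AddChar.sum_mulShift (R := ZMod (A.p ^ A.b)) a A.prim
  rw [ZMod.card] at h
  simp only [mul_comm a, h]
  split_ifs <;> simp

variable [NeZero (A.p ^ A.b)] (hk : 0 < k) {j : ℕ} (h0 : 0 < j) (hj : j ≤ A.a) {c c' : ZMod (A.p ^ A.b)}
include hk h0 hj

theorem sum_tau (hc : c ≠ 0) : ∑ z, A.τ c (j * z) = 0 := by
  simp only [Ar.τ]
  rw [Finset.sum_comm]
  refine Finset.sum_eq_zero fun s _ => ?_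
  simp only [← mul_assoc]
  rw [sum_chi, if_neg]
  rwa [(unit_j A h0 hj).mul_left_eq_zero, ((unit_g A hk).pow s).mul_left_eq_zero]

omit h0 hj in
open Classical in
theorem count (hc : c' ≠ 0) (s : ℕ) : ∑ t ∈ Finset.range (2 * k), (if c' * A.g ^ t = c * A.g ^ s then (1 : ℂ) else 0) =
    if ∃ r : ℕ, c' = A.g ^ r * c then 1 else 0 := by
  have h1 : ∀ r, A.g ^ (r % (2 * k)) = A.g ^ r := fun r => (pow_eq_pow_mod r A.g_pow).symm
  have h2 : ∀ r, A.g ^ ((2 * k - 1) * r) * A.g ^ r = 1 := fun r => by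
    rw [← pow_add, ← Nat.succ_mul, show (2 * k - 1).succ = 2 * k by omega, pow_mul, A.g_pow, one_pow]
  split_ifs with h
  · obtain ⟨r, rfl⟩ := h
    have h3 : A.g ^ r * c * A.g ^ (((2 * k - 1) * r + s) % (2 * k)) = c * A.g ^ s := by
      rw [h1, pow_add]; linear_combination c * A.g ^ s * h2 r
    have h4 : ∀ t u, t < 2 * k → u ≤ t → A.g ^ r * c * A.g ^ t = A.g ^ r * c * A.g ^ u → t = u := fun t u ht hu e => by
      obtain ⟨d, rfl⟩ := Nat.exists_eq_add_of_le hu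
      have h5 := A.g_free d (A.g ^ r * c * A.g ^ u) (by rwa [Ne, ((unit_g A hk).pow u).mul_left_eq_zero])
        (by rw [pow_add] at e; linear_combination e)
      rw [Nat.eq_zero_of_dvd_of_lt h5 (by omega), add_zero]
    have h5 := Nat.mod_lt ((2 * k - 1) * r + s) (by omega : 0 < 2 * k)
    rw [Finset.sum_eq_single_of_mem _ (Finset.mem_range.2 h5) fun t ht hne => if_neg fun e => hne ?_, if_pos h3]
    rcases le_total t (((2 * k - 1) * r + s) % (2 * k)) with h6 | h6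
    · exact (h4 _ _ h5 h6 (h3.trans e.symm)).symm
    · exact h4 _ _ (Finset.mem_range.1 ht) h6 (e.trans h3.symm)
  · refine Finset.sum_eq_zero fun t _ => if_neg fun e => h ⟨(2 * k - 1) * t + s, ?_⟩
    rw [pow_add]
    linear_combination A.g ^ ((2 * k - 1) * t) * e - c' * h2 t

open Classical in
theorem sum_tau_tau (hc : c' ≠ 0) : ∑ z, conj (A.τ c (j * z)) * A.τ c' (j * z) =
    2 * k * (A.p : ℂ) ^ A.b * if ∃ r : ℕ, c' = A.g ^ r * c then 1 else 0 := by
  have h1 : ∀ s t : ℕ, ∑ z, conj (A.χ (c * A.g ^ s * (j * z))) * A.χ (c' * A.g ^ t * (j * z)) =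
      (A.p : ℂ) ^ A.b * if c' * A.g ^ t = c * A.g ^ s then 1 else 0 := fun s t => by
    rw [Finset.sum_congr rfl fun z _ => show _ = A.χ ((c' * A.g ^ t - c * A.g ^ s) * j * z) by
      rw [← AddChar.map_neg_eq_conj, ← AddChar.map_add_eq_mul]; congr 1; ring, sum_chi, mul_boole]
    exact if_congr (by rw [(unit_j A h0 hj).mul_left_eq_zero, sub_eq_zero]) rfl rfl
  simp only [Ar.τ, map_sum, Finset.sum_mul_sum]
  rw [Finset.sum_comm, Finset.sum_congr rfl fun s _ => Finset.sum_comm]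
  simp only [h1, ← Finset.mul_sum, count A hk hc, Finset.sum_const, Finset.card_range, nsmul_eq_mul]
  push_cast
  ring

end ar

variable {V : Type} [AddCommGroup V] [Module ℂ V] {H : HS V} {C : Cyc H} (P : Loc C) {A : Ar P.k P.I}

theorem nn_ne {j : ℕ} (h0 : 0 < j) : nn P.ng P.q₀ j ≠ 0 := by
  have h1 : 1 < P.q₀ ^ j := Nat.one_lt_pow h0.ne' P.two_le
  have h2 : ep P.ng j ≤ 1 := by
    rw [ep]
    split_ifs
    · rcases neg_one_pow_eq_or ℤ j with h | h <;> omega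
    · rfl
  rw [nn, sub_ne_zero, ← Nat.cast_pow, ← Int.cast_natCast, Ne, Int.cast_inj]
  omega

section lab

variable (hL : Lab P A) {j : ℕ} (h0 : 0 < j) (hj : j ≤ A.a) {c c' : ZMod (A.p ^ A.b)}
include hL h0 hj

theorem cnt_div [NeZero (A.p ^ A.b)] (f : ZMod (A.p ^ A.b) → ℂ) (h1 : f 0 = 0) (h2 : ∀ z, f (A.g * z) = f z) {r : ℂ}
    (h3 : ∑ z, f z = 2 * P.k * (A.p : ℂ) ^ A.b * r) : (∑ i with P.d i ∣ j, f (A.ζ i) * P.d i) / nn P.ng P.q₀ j = r := by
  have h4 := hL.cnt j h0 hj f h1 h2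
  rw [finsum_eq_sum_of_fintype, h3, mul_left_comm (nn _ _ _)] at h4
  rw [div_eq_iff (nn_ne P h0), mul_comm r, ← mul_left_cancel₀ (mul_ne_zero (mul_ne_zero two_ne_zero
    (Nat.cast_ne_zero.2 P.k_pos.ne')) (pow_ne_zero _ (Nat.cast_ne_zero.2 A.pp.ne_zero))) h4]
  exact Finset.sum_congr rfl fun i _ => mul_comm _ _

theorem cf_wt (hc : c ≠ 0) : P.cf j (P.wt A j c) = -1 := by
  have := ne0 A
  refine cnt_div P hL h0 hj (fun z => A.τ c (j * z) - 2 * P.k) (by rw [mul_zero, tau_zero, sub_self])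
    (fun z => by rw [mul_left_comm, tau_g]) ?_
  rw [Finset.sum_sub_distrib, sum_tau A P.k_pos h0 hj hc, Finset.sum_const, Finset.card_univ, ZMod.card, nsmul_eq_mul]
  push_cast
  ring

open Classical in
theorem cf_wt_wt (hc : c ≠ 0) (hc' : c' ≠ 0) :
    (∑ i with P.d i ∣ j, conj (P.wt A j c i) * P.wt A j c' i * P.d i) / nn P.ng P.q₀ j =
      (if ∃ r : ℕ, c' = A.g ^ r * c then 1 else 0) + 2 * P.k := by
  have := ne0 A
  refine cnt_div P hL h0 hj (fun z => conj (A.τ c (j * z) - 2 * P.k) * (A.τ c' (j * z) - 2 * P.k))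
    (by rw [mul_zero, tau_zero A c', sub_self, mul_zero]) (fun z => by rw [mul_left_comm, tau_g, tau_g]) ?_
  have h1 := congrArg conj (sum_tau A P.k_pos h0 hj hc)
  rw [map_sum, map_zero] at h1
  simp only [map_sub, map_mul, map_natCast, map_ofNat, sub_mul, mul_sub, Finset.sum_sub_distrib, ← Finset.mul_sum,
    ← Finset.sum_mul, h1, sum_tau A P.k_pos h0 hj hc', sum_tau_tau A P.k_pos h0 hj hc', Finset.sum_const,
    Finset.card_univ, ZMod.card, nsmul_eq_mul]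
  push_cast
  ring

end lab

/-! ### sites and runners -/

theorem sig_eq (j : ℕ) (c : Site) : P.sig j c = sg P.ng P.k j c := by simp [Loc.sig, sg]

theorem run_sg (n : ℤ) (c : Site) : P.run (sg P.ng P.k n c) = P.run c := by
  refine Prod.ext ?_ (by simp [Loc.run, sg])
  simp only [Loc.run, sg, Int.add_mul_ediv_left _ _ (Nat.cast_ne_zero.2 P.k_pos.ne' : (P.k : ℤ) ≠ 0), Int.odd_add,
    ← Int.not_odd_iff_even]
  by_cases h1 : Odd n <;> by_cases h2 : Odd (c.2 / P.k) <;> cases P.ng <;> cases c.1 <;> simp [h1, h2]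

theorem iv_run (ρ : Set (Bool × ZMod P.k)) : Iv P.ng P.k (P.run ⁻¹' ρ) := fun n c => by
  rw [Set.mem_preimage, run_sg, Set.mem_preimage]

theorem iv_univ : Iv P.ng P.k Set.univ := fun _ _ => Iff.rfl

theorem exists_base (ρ : Bool × ZMod P.k) : ∃ c₀, ∀ c, c ∈ P.run ⁻¹' {ρ} ↔ ∃ r, sg P.ng P.k r c₀ = c := by
  obtain ⟨x, hx⟩ := ZMod.intCast_surjective ρ.2
  obtain ⟨c₀, h⟩ : ∃ c₀, P.run c₀ = ρ :=
    ⟨(xor ρ.1 (P.ng && decide (Odd (x / P.k))), x), Prod.ext (by simp [Loc.run]) hx⟩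
  refine ⟨c₀, fun c => ⟨fun hc => ?_, fun ⟨r, hr⟩ => by rw [← hr, iv_run]; exact h⟩⟩
  have h1 : P.run c₀ = P.run c := h.trans (Set.mem_singleton_iff.1 hc).symm
  obtain ⟨r, hr⟩ := (ZMod.intCast_eq_intCast_iff_dvd_sub _ _ _).1 (congrArg Prod.snd h1)
  have h2 : (sg P.ng P.k r c₀).2 = c.2 := by simp only [sg]; omega
  have h3 := congrArg Prod.fst ((run_sg P r c₀).trans h1)
  simp only [Loc.run, h2] at h3
  exact ⟨r, Prod.ext (Bool.xor_left_inj.1 h3) h2⟩

theorem inf_neg {S : Set Site} (hS : Iv P.ng P.k S) {c : Site} (hc : c ∈ S) : {c ∈ S | c.2 < 0}.Infinite := by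
  have hk := P.k_pos
  refine Set.infinite_of_injective_forall_mem (f := fun n : ℕ => sg P.ng P.k (-(n + c.2.natAbs + 1)) c)
    (fun a b e => ?_) fun n => ⟨(hS _ _).2 hc, ?_⟩
  · have h1 := mul_left_cancel₀ (Nat.cast_ne_zero.2 hk.ne') (add_left_cancel (congrArg Prod.snd e))
    omega
  · have h1 : (P.k : ℤ) * (-(n + c.2.natAbs + 1)) ≤ -(n + c.2.natAbs + 1) := by
      nlinarith [(by omega : (1 : ℤ) ≤ P.k), (by omega : (0 : ℤ) ≤ n + c.2.natAbs + 1)]
    simp only [sg]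
    omega

variable {P}

theorem ls_aa {S : Set Site} {j : ℕ} (h : LF (bi P.ng P.k C.ps C.pt S j 0)) :
    LS (bi P.ng P.k C.ps C.pt S j 0) (P.aa S j) := by
  classical
  convert ls_mk (H := H.fock) h using 1
  rw [Loc.aa]
  congr 1
  funext x
  refine finsum_congr fun c => ?_
  rw [finsum_eq_if, bi, sg_zero, sig_eq]
  split_ifs <;> rfl

theorem ls_as {S : Set Site} {j : ℕ} (h : LF (bi P.ng P.k C.ps C.pt S 0 j)) :
    LS (bi P.ng P.k C.ps C.pt S 0 j) (P.as S j) := by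
  classical
  convert ls_mk (H := H.fock) h using 1
  rw [Loc.as]
  congr 1
  funext x
  refine finsum_congr fun c => ?_
  rw [finsum_eq_if, bi, sg_zero, sig_eq]
  split_ifs <;> rfl

theorem ls_run {m n : ℤ} {T : Set Site → End ℂ (ℤ →₀ V)} (h : ∀ S, LS (bi P.ng P.k C.ps C.pt S m n) (T S)) :
    T Set.univ = ∑ᶠ ρ, T (P.run ⁻¹' {ρ}) := by
  classical
  have : NeZero P.k := ⟨P.k_pos.ne'⟩
  rw [finsum_eq_sum_of_fintype]
  refine (h _).uniq ((LS.sum Finset.univ fun ρ => h (P.run ⁻¹' {ρ})).congr fun c => ?_)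
  rw [Finset.sum_eq_single (P.run c) (fun ρ _ h1 => by
    rw [bi, if_neg fun h2 : c ∈ P.run ⁻¹' {ρ} => h1 (Eq.symm h2)]) (by simp)]
  simp [bi]

theorem hat_comm {B : End ℂ V} (h : Commute B H.J) (j : ℕ) : Commute B (P.hat j) := by
  rw [Loc.hat]
  split_ifs
  exacts [h.neg_right, Commute.one_right _]

theorem hat_J (j : ℕ) : Commute (P.hat j) H.J := (hat_comm (Commute.refl _) j).symm

theorem hat_sq (j : ℕ) : P.hat j * P.hat j = 1 := by
  rw [Loc.hat]
  split_ifs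
  exacts [by rw [neg_mul_neg, J_sq], one_mul _]

theorem D_J (j : ℕ) (α : P.I → ℂ) : Commute (P.D j α) H.J := comm_J (P.D_hom j α) (by
  rw [sh]
  split_ifs
  exacts [⟨_, rfl⟩, ⟨0, by simp⟩])

theorem Dh_comm (j l : ℕ) (α β : P.I → ℂ) : Commute (P.Dh j α) (P.Dh l β) := by
  have h1 : Commute (P.hat j * P.D j α) (P.hat l * P.D l β) :=
    ((hat_comm (hat_J j) l).mul_right (hat_comm (D_J l β) j).symm).mul_left
      ((hat_comm (D_J j α) l).mul_right (P.DD j α l β))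
  show _ = _
  rw [Loc.Dh, Loc.Dh, ← lf_mul, h1.eq, lf_mul]

theorem Dsh_Dh (j l : ℕ) (α β : P.I → ℂ) : P.Dsh j α * P.Dh l β = P.Dh l β * P.Dsh j α +
    (if j = l then (j : ℂ) * (∑ i with P.d i ∣ j, conj (α i) * β i * P.d i) / nn P.ng P.q₀ j else 0) • 1 := by
  have h1 := hat_comm (P := P) (comm_J' (D_J j α) (P.D_adj j α)) l
  rw [Loc.Dh, Loc.Dsh, ← lf_mul, ← lf_mul, ← lf_add_smul, h1.mul_mul_mul_comm, (hat_comm (D_J l β) j).mul_mul_mul_comm,
    P.DsD, mul_add, (hat_comm (hat_J j) l).eq]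
  congr 2
  split_ifs with e
  · rw [e, hat_sq, one_mul]
  · rw [zero_smul, mul_zero]

section car

variable (hC : CAR C)
include hC

theorem aa_ls (S : Set Site) {j : ℕ} (h0 : 0 < j) : LS (bi P.ng P.k C.ps C.pt S j 0) (P.aa S j) :=
  ls_aa ((fm hC).lf_bi P.k_pos S (by omega))

theorem as_ls (S : Set Site) {j : ℕ} (h0 : 0 < j) : LS (bi P.ng P.k C.ps C.pt S 0 j) (P.as S j) :=
  ls_as ((fm hC).lf_bi P.k_pos S (by omega))

theorem as_ls' {S : Set Site} (hS : Iv P.ng P.k S) {j : ℕ} (h0 : 0 < j) :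
    LS (bi P.ng P.k C.ps C.pt S (-j) 0) (P.as S j) := by
  simpa using (as_ls hC S h0).shift hS (-j)

theorem zero_inf {S : Set Site} (hS : {c ∈ S | c.2 < 0}.Infinite) : P.aa S 0 = 0 ∧ P.as S 0 = 0 := by
  constructor <;> refine H.fock.b.ext fun x => (mk'_b _ x).trans ?_ <;>
    simp only [sig_eq, Nat.cast_zero, sg_zero] <;> exact (fm hC).inf_bi0 hS (H.fock.b.ne_zero x)

theorem aa_adj (S : Set Site) (j : ℕ) : H.fock.Adj (P.aa S j) (P.as S j) := by
  have h1 : ∀ c, H.fock.Adj (bi P.ng P.k C.ps C.pt S j 0 c) (bi P.ng P.k C.ps C.pt S 0 j c) := fun c => by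
    rw [bi, bi]
    split_ifs
    exacts [adj_mul (hC.adj _) (adj_symm (hC.adj _)), adj_zero]
  rcases j.eq_zero_or_pos with rfl | h0
  · by_cases h : {c ∈ S | c.2 < 0}.Finite
    · exact adj_ls (ls_aa ((fm hC).lf_bi0 h)) (ls_as ((fm hC).lf_bi0 h)) h1
    · rw [(zero_inf hC h).1, (zero_inf hC h).2]
      exact adj_zero
  · exact adj_ls (aa_ls hC S h0) (as_ls hC S h0) h1

theorem zero_run (ρ : Bool × ZMod P.k) : P.aa (P.run ⁻¹' {ρ}) 0 = 0 ∧ P.as (P.run ⁻¹' {ρ}) 0 = 0 :=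
  let ⟨c₀, h⟩ := exists_base P ρ
  zero_inf hC (inf_neg P (iv_run P _) ((h c₀).2 ⟨0, sg_zero _⟩))

theorem aa_sum (j : ℕ) : P.aa Set.univ j = ∑ᶠ ρ, P.aa (P.run ⁻¹' {ρ}) j := by
  rcases j.eq_zero_or_pos with rfl | h0
  · simp only [(zero_inf hC (inf_neg P (iv_univ P) (Set.mem_univ 0))).1, (zero_run hC _).1, finsum_zero]
  · exact ls_run (T := fun S => P.aa S j) fun S => aa_ls hC S h0

theorem as_sum (j : ℕ) : P.as Set.univ j = ∑ᶠ ρ, P.as (P.run ⁻¹' {ρ}) j := by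
  rcases j.eq_zero_or_pos with rfl | h0
  · simp only [(zero_inf hC (inf_neg P (iv_univ P) (Set.mem_univ 0))).2, (zero_run hC _).2, finsum_zero]
  · exact ls_run (T := fun S => P.as S j) fun S => as_ls hC S h0

theorem as_aa (ρ ρ' : Bool × ZMod P.k) {j l : ℕ} (hj : 0 < j) (hl : 0 < l) :
    P.as (P.run ⁻¹' {ρ}) j * P.aa (P.run ⁻¹' {ρ'}) l = P.aa (P.run ⁻¹' {ρ'}) l * P.as (P.run ⁻¹' {ρ}) j +
      (open Classical in if j = l ∧ ρ = ρ' then (j : ℂ) else 0) • 1 := by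
  have h1 := as_ls' hC (iv_run P {ρ}) hj
  have h2 := aa_ls (P := P) hC (P.run ⁻¹' {ρ'}) hl
  split_ifs with e
  · obtain ⟨rfl, rfl⟩ := e
    obtain ⟨c₀, h⟩ := exists_base P ρ
    exact (fm hC).bi_run P.k_pos (iv_run P _) h h1 h2
  · rw [zero_smul, add_zero]
    by_cases e1 : j = l
    · refine sub_eq_zero.1 (((fm hC).bi_bi (iv_run P _) h1 h2).uniq (ls_zero.congr fun c => ?_))
      have h3 : c ∉ P.run ⁻¹' {ρ} ∩ P.run ⁻¹' {ρ'} := fun h => e ⟨e1, h.1.symm.trans h.2⟩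
      rw [bi, bi, if_neg h3, if_neg h3, sub_zero]
    · exact (fm hC).bi_comm P.k_pos (iv_run P _) (iv_run P _) h1 h2 (by omega)

theorem as_aa_univ {j l : ℕ} (hj : 0 < j) (hl : 0 < l) : P.as Set.univ j * P.aa Set.univ l =
    P.aa Set.univ l * P.as Set.univ j + (if j = l then (j : ℂ) * (2 * P.k) else 0) • 1 := by
  classical
  have : NeZero P.k := ⟨P.k_pos.ne'⟩
  rw [aa_sum hC, as_sum hC, finsum_eq_sum_of_fintype, finsum_eq_sum_of_fintype, Finset.sum_mul_sum, Finset.sum_mul_sum,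
    Finset.sum_comm (f := fun ρ' ρ => P.aa _ l * P.as (P.run ⁻¹' {ρ}) j)]
  simp only [as_aa hC _ _ hj hl, Finset.sum_add_distrib, ← Finset.sum_smul]
  congr 2
  split_ifs with e
  · simp [e, mul_comm]
  · simp [e]

variable (hR : Rel P) (hL : Lab P A) {c : ZMod (A.p ^ A.b)} (hc : c ≠ 0) {j : ℕ} (h0 : 0 < j) (hj : j ≤ A.a)
include hR hL hc h0 hj

theorem pl_s (x : Site) : Commute (P.PL A c j) (C.ps x) := by
  show _ = _
  rw [Loc.PL, add_mul, mul_add, hR.s, (fm hC).bi_s (aa_ls hC _ h0), cf_wt P hL h0 hj hc, if_pos (Set.mem_univ _), sig_eq]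
  module

theorem pl_t (x : Site) : Commute (P.PL A c j) (C.pt x) := by
  obtain ⟨x, rfl⟩ := (sge P.ng P.k j).surjective x
  show _ * C.pt (sg P.ng P.k j x) = C.pt (sg P.ng P.k j x) * _
  rw [Loc.PL, add_mul, mul_add, (fm hC).bi_t (aa_ls hC _ h0), ← sig_eq, hR.t, cf_wt P hL h0 hj hc, if_pos (Set.mem_univ _)]
  module

theorem pls_s (x : Site) : Commute (P.PLs A c j) (C.ps x) := by
  obtain ⟨x, rfl⟩ := (sge P.ng P.k j).surjective x
  show _ * C.ps (sg P.ng P.k j x) = C.ps (sg P.ng P.k j x) * _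
  rw [Loc.PLs, add_mul, mul_add, (fm hC).bi_s (as_ls' hC (iv_univ P) h0), sg_add, neg_add_cancel, sg_zero, ← sig_eq,
    hR.s', cf_wt P hL h0 hj hc, if_pos (Set.mem_univ _), map_neg, map_one]
  module

theorem pls_t (x : Site) : Commute (P.PLs A c j) (C.pt x) := by
  have h1 := (fm hC).bi_t (as_ls' hC (iv_univ P) h0) (sg P.ng P.k j x)
  rw [sg_add, neg_add_cancel, sg_zero, if_pos (Set.mem_univ _)] at h1
  show _ = _
  rw [Loc.PLs, add_mul, mul_add, h1, ← sig_eq, hR.t', cf_wt P hL h0 hj hc, map_neg, map_one]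
  module

end car

/-- **box HEI** -/
theorem boxHEI : BoxHEI := fun V _ _ H C P A hC hR hL =>
  { aa_adj := aa_adj hC
    aa_s := fun ρ j c h0 => by
      rw [(fm hC).bi_s (aa_ls hC _ h0), sig_eq]
      rfl
    aa_t := fun ρ j c h0 => by
      rw [sig_eq, (fm hC).bi_t (aa_ls hC _ h0)]
      rfl
    aa_aa := fun ρ ρ' j l hj hl =>
      (fm hC).bi_comm P.k_pos (iv_run P _) (iv_run P _) (aa_ls hC _ hj) (aa_ls hC _ hl) (by omega)
    as_aa := fun ρ ρ' j l hj hl => by convert as_aa hC ρ ρ' hj hl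
    aa_sum := aa_sum hC
    as_sum := as_sum hC
    pl_adj := fun c j => adj_add (hR.adj _ _) (aa_adj hC _ _)
    pl_s := fun c j x hc h0 hj => pl_s hC hR hL hc h0 hj x
    pl_t := fun c j x hc h0 hj => pl_t hC hR hL hc h0 hj x
    pl_pl := fun c c' j l hc hc' h0 hj h0' hl => by
      have h1 := Fm.bi_commute (aa_ls (P := P) hC Set.univ h0') (pl_s hC hR hL hc h0 hj) (pl_t hC hR hL hc h0 hj)
      have h2 := Fm.bi_commute (aa_ls (P := P) hC Set.univ h0) (pl_s hC hR hL hc' h0' hl) (pl_t hC hR hL hc' h0' hl)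
      have h3 : Commute (P.aa Set.univ j) (P.aa Set.univ l) :=
        (fm hC).bi_comm P.k_pos (iv_univ P) (iv_univ P) (aa_ls hC _ h0) (aa_ls hC _ h0') (by omega)
      have h4 := h2.symm.sub_right h3
      rw [Loc.PL, add_sub_cancel_right] at h4
      exact Commute.add_right ((Dh_comm _ _ _ _).add_left h4) h1
    pls_pl := fun c c' j l hc hc' h0 hj h0' hl => by
      have h1 := (Fm.bi_commute (aa_ls (P := P) hC Set.univ h0') (pls_s hC hR hL hc h0 hj) (pls_t hC hR hL hc h0 hj)).eq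
      have h2 := (Fm.bi_commute (as_ls (P := P) hC Set.univ h0) (pl_s hC hR hL hc' h0' hl)
        (pl_t hC hR hL hc' h0' hl)).eq
      have h3 := as_aa_univ (P := P) hC h0 h0'
      have h4 := Dsh_Dh j l (P.wt A j c) (P.wt A l c')
      simp only [Loc.PL, Loc.PLs, add_mul, mul_add] at h1 h2 ⊢
      by_cases e : j = l
      · subst e
        rw [if_pos rfl, mul_div_assoc, cf_wt_wt P hL h0 hj hc hc'] at h4
        rw [if_pos rfl] at h3
        by_cases e : ∃ s : ℕ, c' = A.g ^ s * c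
        · rw [if_pos e] at h4
          rw [if_pos ⟨rfl, e⟩]
          linear_combination (norm := module) h1 - h2 - h3 + h4
        · rw [if_neg e] at h4
          rw [if_neg fun h => e h.2]
          linear_combination (norm := module) h1 - h2 - h3 + h4
      · rw [if_neg e] at h3 h4
        rw [if_neg fun h => e h.1]
        linear_combination (norm := module) h1 - h2 - h3 + h4 }

end Cfsg.Agent.PQ.Hei
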